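import Cfsg.Agent.H705.TwoB.Eleven
import Cfsg.Agent.H715.Mon.Exact
import Cfsg.Agent.H853.RB.Rules
import Cfsg.Agent.H829.Pw.BDeg
import Cfsg.Agent.H514.RC.Fpr

/-!
# S3509, row B: the numbers (for helper853)

* `cent_le` : `|C(y)| ≤ 3600` for the elements `y` of prime order at least 11 of the Baby Monster;
* `le_card` : a nontrivial transitive action has at least `1 + d` points;
* `base_B` : no cover `{x, y}` with `y` of prime order at least 11.
-/

set_option autoImplicit false
set_option maxRecDepth 100000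

namespace Cfsg.Agent.H514.RC

open Cfsg Cfsg.Agent Cfsg.Agent.Characters Cfsg.Agent.Characters.Core
open Cfsg.Agent.H940.Eng (Base)
open Cfsg.Agent.H715.Mon.Cent Cfsg.Agent.H715.Mon.Grp
open Subgroup (centralizer)
open scoped commutatorElement

universe u

/-- a nontrivial transitive action has at least `1 + d` points -/
theorem le_card_of {G : Type u} [Group G] [Finite G] {d : ℕ}
    (hd : ∀ χ : IrrCharacter G, (χ : G → ℂ) ≠ 1 → ∃ n : ℕ, d ≤ n ∧ (χ : G → ℂ) 1 = n)
    {Ω : Type u} [Finite Ω] [MulAction G Ω] [MulAction.IsPretransitive G Ω] (h1 : 1 < Nat.card Ω) :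
    1 + d ≤ Nat.card Ω := by
  classical
  have : Fintype G := Fintype.ofFinite G
  have : Finite (IrrCharacter G) := finite_irr
  have : Fintype (IrrCharacter G) := Fintype.ofFinite _
  have hY : Nonempty Ω := (Nat.card_pos_iff.1 (by omega)).1
  have hπc : IsCharacter G (fun g : G => (Nat.card (MulAction.fixedBy Ω g) : ℂ)) :=
    Cfsg.Agent.S0157.isCharacter_fixedBy Ω
  obtain ⟨m, hm⟩ := exists_nat_comb hπc
  set o : IrrCharacter G := ⟨1, isIrr_one⟩ with ho
  have hmo : m o = 1 := by
    have h3 : classInner (fun g : G => (Nat.card (MulAction.fixedBy Ω g) : ℂ)) 1 = 1 := by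
      have h4 := Cfsg.Agent.S0157.avg_fixedBy (G := G) Ω
      rw [Cfsg.Agent.S0157.card_orbits_of_pretransitive G Ω] at h4
      simpa [classInner] using h4
    have h4 := classInner_sum_nsmul_irr m o
    rw [← hm] at h4
    have h5 : ((m o : ℕ) : ℂ) = 1 := h4.symm.trans h3
    exact_mod_cast h5
  have key : (Nat.card Ω : ℂ) = 1 + ∑ χ ∈ Finset.univ.erase o, (m χ : ℂ) * (χ : G → ℂ) 1 := by
    have h5 := congrFun hm 1
    simp only [Finset.sum_apply] at h5
    have h6 : Nat.card (MulAction.fixedBy Ω (1 : G)) = Nat.card Ω := by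
      rw [MulAction.fixedBy_one_eq_univ]
      exact Nat.card_univ
    rw [h6] at h5
    rw [h5, ← Finset.add_sum_erase Finset.univ _ (Finset.mem_univ o), hmo]
    congr 1
    · simp [ho]
    · exact Finset.sum_congr rfl fun χ _ => by simp
  choose! n hn hn1 using fun (χ : IrrCharacter G) (h : χ ∈ Finset.univ.erase o) =>
    hd χ (fun h2 => (Finset.mem_erase.1 h).1 (Subtype.ext h2))
  have hsum : 1 + ∑ χ ∈ Finset.univ.erase o, m χ * n χ = Nat.card Ω := by
    have h7 : ((1 + ∑ χ ∈ Finset.univ.erase o, m χ * n χ : ℕ) : ℂ) = (Nat.card Ω : ℂ) := by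
      rw [key]
      push_cast
      congr 1
      exact Finset.sum_congr rfl fun χ h => by rw [hn1 χ h]
    exact_mod_cast h7
  have h8 : ∑ χ ∈ Finset.univ.erase o, m χ * n χ ≠ 0 := by omega
  obtain ⟨χ, hχ, h9⟩ := Finset.exists_ne_zero_of_sum_ne_zero h8
  have h10 : m χ * n χ ≤ ∑ χ ∈ Finset.univ.erase o, m χ * n χ :=
    Finset.single_le_sum (f := fun χ => m χ * n χ) (fun i _ => Nat.zero_le _) hχ
  have h11 : 1 ≤ m χ := Nat.one_le_iff_ne_zero.2 (left_ne_zero_of_mul h9)
  have h12 : n χ ≤ m χ * n χ := Nat.le_mul_of_pos_left _ h11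
  have := hn χ hχ
  omega

theorem le_card {G : Type u} [Group G] [Finite G] (hperf : commutator G = ⊤) {d : ℕ} (hd : H514.DP.MinDeg G d)
    {Ω : Type u} [Finite Ω] [MulAction G Ω] [MulAction.IsPretransitive G Ω] (h1 : 1 < Nat.card Ω) :
    1 + d ≤ Nat.card Ω :=
  le_card_of (fun χ h1 => by
    obtain ⟨n, h2, -, h3⟩ := hd.le χ.2 (fun h => h1 (H514.DP.eq_one_of_perf hperf χ.2 h))
    exact ⟨n, h2, h3⟩) h1

/-- **the centralizers of the elements of prime order at least 11** -/
theorem cent_le {L : Type u} [Group L] [Finite L] (B : Base) (h : Spor.IsoB L) {y : L} (hp : (orderOf y).Prime)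
    (h11 : 11 ≤ orderOf y) : Nat.card ↥(centralizer ({y} : Set L)) ≤ 60 ^ 2 := by
  have hqd : orderOf y ∣ 4154781481226426191177580544000000 := by
    rw [← NotCT.Orders.b h]
    exact orderOf_dvd_natCard y
  rcases H705.OreB.Small.primes hp hqd with e | e | e | e | e | e | e | e | e | e | e
  · omega
  · omega
  · omega
  · omega
  · rw [(H705.TwoB.Eleven.struct11 B h e).1]
    norm_num
  · rw [(H139.LD.struct13 h e).1]
    norm_num
  · have := H705.OreB.Small.of_mon h (c := 168 * 17) (by norm_num) (by norm_num)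
      (fun y hy => Nat.le_of_dvd (by norm_num) (Cfsg.Agent.H241.Mon.card_seventeen (three B) hy)) e
    omega
  · have := H705.OreB.Small.of_mon h (c := 60 * 19) (by norm_num) (by norm_num)
      (fun y hy => card19 (sThree B) hy) e
    omega
  · rw [H715.Mon.Exact.B.cent23 (sThree B) h e]
    norm_num
  · have := H705.OreB.Small.of_mon h (c := 6 * 31) (by norm_num) (by norm_num)
      (fun y hy => (card31 (sThree B) hy).le) e
    omega
  · have := H705.OreB.Small.of_mon h (c := 47 * 2) (by norm_num) (by norm_num)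
      (fun y hy => (H436.MonLoc.card47 B.known hy).le) e
    omega

/-- `Ω(|B|) = 69` -/
theorem cardFactors_b : ArithmeticFunction.cardFactors 4154781481226426191177580544000000 = 69 := by
  have h1 : (4154781481226426191177580544000000 : ℕ) =
      2 ^ 41 * 3 ^ 13 * 5 ^ 6 * 7 ^ 2 * 11 * 13 * 17 * 19 * 23 * 31 * 47 := by norm_num
  have key : ∀ p : ℕ, p.Prime → ArithmeticFunction.cardFactors p = 1 := fun p hp =>
    ArithmeticFunction.cardFactors_apply_prime hp
  rw [h1]
  rw [ArithmeticFunction.cardFactors_mul (by norm_num) (by norm_num), ArithmeticFunction.cardFactors_mul (by norm_num) (by norm_num),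
    ArithmeticFunction.cardFactors_mul (by norm_num) (by norm_num), ArithmeticFunction.cardFactors_mul (by norm_num) (by norm_num),
    ArithmeticFunction.cardFactors_mul (by norm_num) (by norm_num), ArithmeticFunction.cardFactors_mul (by norm_num) (by norm_num),
    ArithmeticFunction.cardFactors_mul (by norm_num) (by norm_num), ArithmeticFunction.cardFactors_mul (by norm_num) (by norm_num),
    ArithmeticFunction.cardFactors_mul (by norm_num) (by norm_num), ArithmeticFunction.cardFactors_mul (by norm_num) (by norm_num),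
    key 11 (by norm_num), key 13 (by norm_num), key 17 (by norm_num), key 19 (by norm_num), key 23 (by norm_num),
    key 31 (by norm_num), key 47 (by norm_num),
    ArithmeticFunction.cardFactors_apply_prime_pow (by norm_num), ArithmeticFunction.cardFactors_apply_prime_pow (by norm_num),
    ArithmeticFunction.cardFactors_apply_prime_pow (by norm_num), ArithmeticFunction.cardFactors_apply_prime_pow (by norm_num)]

/-- the minimal degree of a group isomorphic to the Baby Monster -/
theorem minDeg_b {L : Type u} [Group L] (h : Spor.IsoB L) : H514.DP.MinDeg L 4371 := by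
  obtain ⟨e⟩ := h
  intro k ρ hρ hk
  obtain ⟨g, hg⟩ := Cfsg.Agent.H121.Chr.exists_ne_one ρ hρ hk
  have h := H863.BMin.min_degree (F := ℂ) two_ne_zero (MonoidHom.comp ρ e.symm.toMonoidHom) (by
    intro h1
    apply hg
    have h2 : ρ (e.symm (e g)) = 1 := DFunLike.congr_fun h1 (e g)
    rwa [e.symm_apply_apply] at h2)
  rwa [Module.finrank_fintype_fun_eq_card, Fintype.card_fin] at h

open H106.RC in
/-- **no cover `{x, y}` with `y` of prime order at least 11** -/
theorem base_B {L : Type} [Group L] [Finite L] (B : Base) (h : Spor.IsoB L) {Ω : Type} [Finite Ω] [Nonempty Ω]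
    [MulAction L Ω] (hE : Env L Ω (⊤ : Subgroup L)) {x y : L} (hx : x ≠ 1) (hp : (orderOf y).Prime)
    (h11 : 11 ≤ orderOf y) (hc : ∀ ω : Ω, x • ω = ω ∨ y • ω = ω) : False := by
  have hmin : H514.DP.MinDeg L 4371 := minDeg_b h
  have hperf : commutator L = ⊤ := by
    have := hE.simple
    have hL : IsSimpleGroup L := (Subgroup.topEquiv (G := L)).symm.isSimpleGroup
    rcases (inferInstance : (commutator L).Normal).eq_bot_or_eq_top with h1 | h1
    · exfalso
      refine hE.ncomm ⟨⟨fun a b => ?_⟩⟩
      have h2 : ⁅(a : L), (b : L)⁆ ∈ commutator L := Subgroup.commutator_mem_commutator (Subgroup.mem_top _) (Subgroup.mem_top _)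
      rw [h1, Subgroup.mem_bot, commutatorElement_eq_one_iff_mul_comm] at h2
      exact Subtype.ext h2
    · exact h1
  refine H853.RB.base_two hE (n := 69) (by rw [NotCT.Orders.b h, cardFactors_b]) hx hc ?_
  intro O _ _ _ hO
  have h1 := le_card hperf hmin hO
  have h2 := card_fixedBy_le hperf (by norm_num) hmin (Ω := O) y (cent_le B h hp h11)
  omega

end Cfsg.Agent.H514.RC
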