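import Cfsg.Agent.H345.RG.Fpr
import Cfsg.Agent.Involutions.BaerSuzuki

/-!
# S3509: groups whose odd automorphisms are inner, from centralizer orders only (helper514)

* `mem_of_odd`  : elements of odd prime order of `G` are in `N`;
* `fpr_odd`     : their fixed point ratio is at most `|C_S(x)| / m`, `m` the minimal index;
* `fpr_two`     : involutions invert an element of odd prime order (Baer-Suzuki), so the ratio is at most `1/3 + B/m`;
* **`noCov_of_cent`** : `1/3 + B/m + ∑_{p odd} c_p / m < 1`, `|C_S(x)| ≤ c_p ≤ B` for `x` of order `p`: `NoCov S`.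
-/

set_option autoImplicit false
set_option linter.unusedSectionVars false
open Cfsg

namespace Cfsg.Agent.H514.RC

open MulAction Subgroup Cfsg.Agent.H106.RC Cfsg.Agent.H345.RG

variable {G Ω : Type} [Group G] [Finite G] [MulAction G Ω] {N : Subgroup G} {S : Type} [Group S] [Finite S]

/-- every automorphism of odd prime order is inner -/
def OddInner (S : Type) [Group S] : Prop :=
  ∀ (p : ℕ), p.Prime → p ≠ 2 → ∀ α : MulAut S, α ^ p = 1 → ∃ s, α = MulAut.conj s

/-- elements of odd prime order are in `N` -/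
theorem mem_of_odd (hE : Env G Ω N) (e : N ≃* S) (hout : OddInner S) {p : ℕ} (hp : p.Prime) (hp2 : p ≠ 2) {g : G}
    (hg : g ^ p = 1) : ∃ s : S, ((e.symm s : N) : G) = g := by
  have hNn := hE.norm
  let α : MulAut S := (MulAut.congr e) (MulAut.conjNormal g)
  obtain ⟨s, hs⟩ := hout p hp hp2 α (by
    show (MulAut.congr e) (MulAut.conjNormal g) ^ p = 1
    rw [← map_pow, ← map_pow, hg, map_one, map_one])
  have h1 : MulAut.conjNormal g = MulAut.conj (e.symm s) := by
    apply (MulAut.congr e).injective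
    rw [show MulAut.congr e (MulAut.conjNormal g) = α from rfl, hs]
    ext t
    simp [MulAut.congr]
  have h2 : ((e.symm s : N) : G)⁻¹ * g ∈ centralizer (N : Set G) := by
    rw [mem_centralizer_iff]
    intro n hn
    have h3 : g * n * g⁻¹ = (e.symm s : N) * n * ((e.symm s : N) : G)⁻¹ := by
      have := congrArg (fun β : MulAut N => ((β ⟨n, hn⟩ : N) : G)) h1
      simpa [MulAut.conjNormal_apply] using this
    calc n * (((e.symm s : N) : G)⁻¹ * g) = ((e.symm s : N) : G)⁻¹ * (((e.symm s : N) : G) * n *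
        ((e.symm s : N) : G)⁻¹) * g := by group
      _ = ((e.symm s : N) : G)⁻¹ * (g * n * g⁻¹) * g := by rw [h3]
      _ = ((e.symm s : N) : G)⁻¹ * g * n := by group
  rw [hE.cent, mem_bot, inv_mul_eq_one] at h2
  exact ⟨s, h2⟩

/-- the orbits of `N` are big -/
theorem big_of_min (hE : Env G Ω N) (e : N ≃* S) {m : ℕ} (hI : MinIx S m) : Big Ω N m := by
  intro ω
  refine Cfsg.Agent.H867.RC.le_orbit hE (fun H hH => ?_) ω
  have h1 : (H.comap e.symm.toMonoidHom).index = H.index :=
    Subgroup.index_comap_of_surjective H e.symm.surjective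
  rw [← h1]
  apply hI
  intro h
  apply hH
  rw [eq_top_iff]
  intro n _
  have h2 : e n ∈ H.comap e.symm.toMonoidHom := by rw [h]; trivial
  rw [mem_comap] at h2
  change e.symm (e n) ∈ H at h2
  rwa [MulEquiv.symm_apply_apply] at h2

/-- centralizers in `N` and in `S` -/
theorem card_cent_le (e : N ≃* S) (s : S) :
    Nat.card ↥(N ⊓ centralizer ({((e.symm s : N) : G)} : Set G)) ≤ Nat.card ↥(centralizer ({s} : Set S)) := by
  refine Nat.card_le_card_of_injective (fun n : ↥(N ⊓ centralizer ({((e.symm s : N) : G)} : Set G)) =>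
    (⟨e ⟨n.1, n.2.1⟩, ?_⟩ : ↥(centralizer ({s} : Set S)))) ?_
  · rw [mem_centralizer_singleton_iff]
    have h1 : (n.1 : G) * ((e.symm s : N) : G) = ((e.symm s : N) : G) * n.1 :=
      mem_centralizer_singleton_iff.1 n.2.2
    have h2 : (⟨n.1, n.2.1⟩ : N) * e.symm s = e.symm s * ⟨n.1, n.2.1⟩ := Subtype.ext h1
    have h3 := congrArg e h2
    rw [map_mul, map_mul, MulEquiv.apply_symm_apply] at h3
    exact h3
  · intro a b hab
    have h1 : e ⟨a.1, a.2.1⟩ = e ⟨b.1, b.2.1⟩ := congrArg Subtype.val hab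
    have h2 := congrArg (fun n : N => (n : G)) (e.injective h1)
    exact Subtype.ext h2

/-- fixed point ratios of elements of odd prime order -/
theorem fpr_odd [Finite Ω] (hE : Env G Ω N) (e : N ≃* S) (hout : OddInner S) {m : ℕ} (hm : 0 < m) (hI : MinIx S m)
    {p c : ℕ} (hp : p.Prime) (hp2 : p ≠ 2) (hc : ∀ s : S, orderOf s = p → Nat.card ↥(centralizer ({s} : Set S)) ≤ c)
    {g : G} (hg : g ^ p = 1) (hg1 : g ≠ 1) : fpr Ω g ≤ (c : ℚ) / m := by
  obtain ⟨s, rfl⟩ := mem_of_odd hE e hout hp hp2 hg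
  have hpF : Fact p.Prime := ⟨hp⟩
  have hso : orderOf s = p := by
    refine orderOf_eq_prime ?_ ?_
    · have h1 : (e.symm s) ^ p = 1 := Subtype.ext (by simpa using hg)
      have h2 := congrArg e h1
      rwa [map_pow, MulEquiv.apply_symm_apply, map_one] at h2
    · rintro rfl
      exact hg1 (by simp)
  refine (F1 hm (big_of_min hE e hI) hE.norm _).trans ?_
  have hm' : (0 : ℚ) < m := by exact_mod_cast hm
  exact div_le_div_of_nonneg_right (by exact_mod_cast (card_cent_le e s).trans (hc s hso)) hm'.le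

/-- an involution inverts an element of odd prime order -/
theorem exists_inverted [Nonempty Ω] (hE : Env G Ω N) {t : G} (ht : t ^ 2 = 1) (ht1 : t ≠ 1) :
    ∃ (q : ℕ) (y : G), q.Prime ∧ q ≠ 2 ∧ y ^ q = 1 ∧ y ≠ 1 ∧ t * y * t⁻¹ = y ^ (q - 1) := by
  have hNn := hE.norm
  obtain ⟨h, h1, h2, h3⟩ := Cfsg.Agent.Involutions.BaerSuzuki.exists_odd_inverted t (by rw [← pow_two, ht]) (by
    intro hP
    set K : Subgroup G := Subgroup.normalClosure {t} with hK
    have hKn : K.Normal := Subgroup.normalClosure_normal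
    have htK : t ∈ K := Subgroup.subset_normalClosure (Set.mem_singleton t)
    have hR : (K.subgroupOf N).Normal := Subgroup.normal_subgroupOf
    rcases hE.simple.eq_bot_or_eq_top_of_normal _ hR with hb | htop
    · apply ht1
      have hc : t ∈ centralizer (N : Set G) := by
        rw [mem_centralizer_iff]
        intro n hn
        have h4 : n * t * n⁻¹ * t⁻¹ ∈ K := K.mul_mem (hKn.conj_mem _ htK n) (K.inv_mem htK)
        have h5 : n * t * n⁻¹ * t⁻¹ ∈ N := by
          have : n * t * n⁻¹ * t⁻¹ = n * (t * n⁻¹ * t⁻¹) := by group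
          rw [this]
          exact N.mul_mem hn (hNn.conj_mem _ (N.inv_mem hn) t)
        have h6 : (⟨_, h5⟩ : N) ∈ K.subgroupOf N := h4
        rw [hb, mem_bot] at h6
        have h7 : n * t * n⁻¹ * t⁻¹ = 1 := congrArg Subtype.val h6
        calc n * t = (n * t * n⁻¹ * t⁻¹) * (t * n) := by group
          _ = t * n := by rw [h7, one_mul]
      rw [hE.cent, mem_bot] at hc
      exact hc
    · have hle : N ≤ K := by
        intro n hn
        have : (⟨n, hn⟩ : N) ∈ K.subgroupOf N := by rw [htop]; trivial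
        exact this
      have hPN : IsPGroup 2 N := hP.to_le hle
      have := Fact.mk Nat.prime_two
      have hnil : Group.IsNilpotent N := hPN.isNilpotent
      have hs : IsSimpleGroup N := hE.simple
      apply hE.ncomm
      have hsol : Group.IsSolvable N := inferInstance
      exact ⟨⟨fun a b => IsSimpleGroup.comm_iff_isSolvable.2 hsol a b⟩⟩)
  obtain ⟨q, hq, hqd⟩ := Nat.exists_prime_and_dvd (n := orderOf h) (fun h' => h1 (orderOf_eq_one_iff.1 h'))
  obtain ⟨k, hk⟩ := hqd
  have hq2 : q ≠ 2 := by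
    rintro rfl
    rw [hk] at h2
    exact (Nat.not_odd_iff_even.2 (even_two_mul k)) h2
  have hk0 : 0 < k := by
    rcases Nat.eq_zero_or_pos k with h0 | h0
    · rw [h0, mul_zero] at hk
      exact absurd hk (orderOf_pos h).ne'
    · exact h0
  refine ⟨q, h ^ k, hq, hq2, ?_, ?_, ?_⟩
  · rw [← pow_mul, mul_comm, ← hk, pow_orderOf_eq_one]
  · intro h4
    have h5 := orderOf_dvd_of_pow_eq_one h4
    rw [hk] at h5
    have h6 := Nat.le_of_dvd hk0 h5
    have h7 := hq.two_le
    nlinarith
  · rw [← conj_pow, h3, inv_pow]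
    symm
    rw [eq_inv_iff_mul_eq_one, ← pow_mul, ← pow_add]
    have h4 : k * (q - 1) + k = orderOf h := by
      rw [hk, mul_comm q k]
      have := hq.one_lt.le
      obtain ⟨q', rfl⟩ := Nat.exists_eq_add_of_le this
      rw [Nat.add_sub_cancel_left]
      ring
    rw [h4, pow_orderOf_eq_one]

/-- fixed point ratios of involutions -/
theorem fpr_two [Finite Ω] [Nonempty Ω] (hE : Env G Ω N) (e : N ≃* S) (hout : OddInner S) {m B : ℕ} (hm : 0 < m)
    (hI : MinIx S m) (hc : ∀ s : S, (orderOf s).Prime → orderOf s ≠ 2 → Nat.card ↥(centralizer ({s} : Set S)) ≤ B)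
    {t : G} (ht : t ^ 2 = 1) (ht1 : t ≠ 1) : fpr Ω t ≤ (B : ℚ) / m + 1 / 3 := by
  obtain ⟨q, y, hq, hq2, hy, hy1, h⟩ := exists_inverted hE ht ht1
  have hq3 : 3 ≤ q := by
    have := hq.two_le
    omega
  have h1 := fpr_odd hE e hout hm hI (p := q) (c := B) hq hq2 (fun s hs => hc s (hs ▸ hq) (hs ▸ hq2)) hy hy1
  have h2 := F3 (Ω := Ω) hq hy h (by
    intro h3
    have h4 : (q - 1) + 1 ≡ 1 + 1 [MOD q] := h3.add_right 1
    rw [Nat.sub_add_cancel (by omega)] at h4
    have h5 : q ∣ 2 := by
      have h6 : q ≡ 0 [MOD q] := (Nat.modEq_zero_iff_dvd).2 dvd_rfl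
      exact (Nat.modEq_zero_iff_dvd).1 (h4.symm.trans h6)
    have := Nat.le_of_dvd (by norm_num) h5
    omega)
  have h3 : (1 : ℚ) / q ≤ 1 / 3 := by
    apply one_div_le_one_div_of_le (by norm_num)
    exact_mod_cast hq3
  linarith

/-- **Main lemma.** -/
theorem noCov_of_cent {m B : ℕ} (hm : 0 < m) (hI : MinIx S m) (hout : OddInner S) (L : Finset ℕ) (c : ℕ → ℕ)
    (hL : ∀ s : S, (orderOf s).Prime → orderOf s ≠ 2 → orderOf s ∈ L)
    (hc : ∀ s : S, (orderOf s).Prime → orderOf s ≠ 2 → Nat.card ↥(centralizer ({s} : Set S)) ≤ c (orderOf s))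
    (hB : ∀ p ∈ L, c p ≤ B) (h2L : 2 ∉ L)
    (hnum : ((B : ℚ) / m + 1 / 3) + ∑ p ∈ L, (c p : ℚ) / m < 1) : NoCov S := by
  classical
  intro G _ _ Ω _ _ _ N hE e ι _ x r hx hcov _
  have : Fintype ι := Fintype.ofFinite ι
  let β : ℕ → ℚ := fun p => if p = 2 then (B : ℚ) / m + 1 / 3 else (c p : ℚ) / m
  have hm' : (0 : ℚ) < m := by exact_mod_cast hm
  have hβ0 : ∀ p, 0 ≤ β p := by
    intro p
    by_cases hp : p = 2
    · simp only [β, if_pos hp]; positivity
    · simp only [β, if_neg hp]; positivity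
  have hodd : ∀ i, r i ≠ 2 → r i ∈ L := by
    intro i hi
    obtain ⟨s, hs⟩ := mem_of_odd hE e hout (hx.prime i) hi (hx.pow i)
    have hso : orderOf s = r i := by
      refine @orderOf_eq_prime S _ s (r i) ⟨hx.prime i⟩ ?_ ?_
      · have h1 : (e.symm s) ^ r i = 1 := Subtype.ext (by
          have := hx.pow i
          rw [← hs] at this
          simpa using this)
        have h2 := congrArg e h1
        rwa [map_pow, MulEquiv.apply_symm_apply, map_one] at h2
      · rintro rfl
        exact hx.ne i (by rw [← hs]; simp)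
    have := hL s (hso ▸ hx.prime i) (hso ▸ hi)
    rwa [hso] at this
  refine dead_of_sum hcov (fun i => β (r i)) (fun i => ?_) ?_
  · by_cases hi : r i = 2
    · simp only [β, if_pos hi]
      refine fpr_two hE e hout hm hI (fun s h1 h2 => (hc s h1 h2).trans (hB _ (hL s h1 h2))) ?_ (hx.ne i)
      have := hx.pow i
      rwa [hi] at this
    · simp only [β, if_neg hi]
      exact fpr_odd hE e hout hm hI (hx.prime i) hi (fun s hs => by
        have := hc s (hs ▸ hx.prime i) (hs ▸ hi)
        rwa [hs] at this) (hx.pow i) (hx.ne i)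
  · have h1 : ∑ i, β (r i) = ∑ p ∈ Finset.univ.image r, β p := by
      rw [Finset.sum_image fun i _ j _ h => hx.inj h]
    have h2 : (Finset.univ.image r) ⊆ insert 2 L := by
      intro p hp
      obtain ⟨i, -, rfl⟩ := Finset.mem_image.1 hp
      by_cases hi : r i = 2
      · rw [hi]; exact Finset.mem_insert_self _ _
      · exact Finset.mem_insert_of_mem (hodd i hi)
    have h3 : ∑ p ∈ Finset.univ.image r, β p ≤ ∑ p ∈ insert 2 L, β p :=
      Finset.sum_le_sum_of_subset_of_nonneg h2 fun p _ _ => hβ0 p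
    have h4 : ∑ p ∈ insert 2 L, β p = ((B : ℚ) / m + 1 / 3) + ∑ p ∈ L, (c p : ℚ) / m := by
      rw [Finset.sum_insert h2L]
      have e1 : β 2 = (B : ℚ) / m + 1 / 3 := if_pos rfl
      have e2 : ∑ p ∈ L, β p = ∑ p ∈ L, (c p : ℚ) / m := by
        refine Finset.sum_congr rfl fun p hp => ?_
        have : p ≠ 2 := fun h => h2L (h ▸ hp)
        exact if_neg this
      rw [e1, e2]
    rw [h1]
    linarith

end Cfsg.Agent.H514.RC
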