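import Cfsg.Agent.H514.RC.Cent
import Cfsg.Agent.H147.Fpr.Comb2
import Cfsg.Agent.H493.Sep.ONData
import Cfsg.Agent.H999.ONFiveCent
import Cfsg.Agent.H474.ONC.End
import Cfsg.Agent.H498.SporOut
import Cfsg.Agent.H873.RG.Defs

/-!
# S3509, the row O'N (helper514)

`1/3 + 3240/m + (3240 + 180 + 1372 + 11 + 19 + 31)/m < 1` for `m = 12200 ≤` minimal index: `noCov_of_cent`.
-/

set_option autoImplicit false
set_option maxRecDepth 100000
open Cfsg

namespace Cfsg.Agent.H514.RC.ONan

open Subgroup Cfsg.Agent.H106.RC Cfsg.Agent.H345.RG Cfsg.Agent.H940 Cfsg.Agent.H940.Eng Cfsg.Agent.H940.Eng.D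
open Cfsg.Agent.H444.Fpr Cfsg.Agent.H474.ONC
open Cfsg.Agent.H493.Sep.ONLoc (fin simple card)
open Cfsg.Agent.SporadicB.ON45Word (on)
open Cfsg.Agent.H147.Fpr (loc_of_known)

abbrev G : Type := Cfsg.Spor.ON

/-! ### Centralizers -/

theorem not_dvd {x : G} {q c : ℕ} (hx : orderOf x = 7) (hq : q.Prime)
    (hc : ∀ y : G, orderOf y = q → Nat.card ↥(centralizer ({y} : Set G)) = c) (h7 : ¬ 7 ∣ c) :
    ¬ q ∣ Nat.card ↥(centralizer ({x} : Set G)) := by
  have := fin
  intro h
  have : Fact q.Prime := ⟨hq⟩
  obtain ⟨y, hy⟩ := exists_prime_orderOf_dvd_card' q h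
  have hyo : orderOf (y : G) = q := by rw [Subgroup.orderOf_coe, hy]
  have h1 : x ∈ centralizer ({(y : G)} : Set G) :=
    mem_centralizer_singleton_iff.2 (mem_centralizer_singleton_iff.1 y.2).symm
  have h2 : orderOf x ∣ Nat.card (centralizer ({(y : G)} : Set G)) := by
    rw [← Subgroup.orderOf_mk x h1]
    exact orderOf_dvd_natCard _
  rw [hc _ hyo, hx] at h2
  exact h7 h2

theorem dvd_seven {x : G} (hx : orderOf x = 7) : Nat.card ↥(centralizer ({x} : Set G)) ∣ 2 ^ 9 * 7 ^ 3 := by
  have hd := cent_dvd x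
  have h3 := not_dvd hx (by norm_num : Nat.Prime 3) (fun y hy => H999.ONFiveCent.card_cent_three hy) (by norm_num)
  have h5 := not_dvd hx (by norm_num : Nat.Prime 5) (fun y hy => card_cent_five hy) (by norm_num)
  have h11 := not_dvd hx (by norm_num : Nat.Prime 11) (fun y hy => card_cent_eleven hy) (by norm_num)
  have h19 := not_dvd hx (by norm_num : Nat.Prime 19)
    (fun y hy => H680.ONThirtyOne.card_cent_nineteen hy) (by norm_num)
  have h31 := not_dvd hx (by norm_num : Nat.Prime 31) (fun y hy => H680.ONThirtyOne.card_cent hy) (by norm_num)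
  have e : (460815505920 : ℕ) = 3 ^ 4 * (5 * (11 * (19 * (31 * (2 ^ 9 * 7 ^ 3))))) := by norm_num
  rw [e] at hd
  have c3 := (Nat.Prime.coprime_iff_not_dvd (by norm_num : Nat.Prime 3)).2 h3
  have c5 := (Nat.Prime.coprime_iff_not_dvd (by norm_num : Nat.Prime 5)).2 h5
  have c11 := (Nat.Prime.coprime_iff_not_dvd (by norm_num : Nat.Prime 11)).2 h11
  have c19 := (Nat.Prime.coprime_iff_not_dvd (by norm_num : Nat.Prime 19)).2 h19
  have c31 := (Nat.Prime.coprime_iff_not_dvd (by norm_num : Nat.Prime 31)).2 h31
  exact c31.symm.dvd_of_dvd_mul_left (c19.symm.dvd_of_dvd_mul_left (c11.symm.dvd_of_dvd_mul_left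
    (c5.symm.dvd_of_dvd_mul_left ((c3.pow_left 4).symm.dvd_of_dvd_mul_left hd))))

/-- elements of order 7 -/
theorem cent_seven {x : G} (hx : orderOf x = 7) : Nat.card ↥(centralizer ({x} : Set G)) ≤ 1372 := by
  have := fin
  by_cases h2 : 2 ∣ Nat.card ↥(centralizer ({x} : Set G))
  · have : Fact (Nat.Prime 2) := ⟨Nat.prime_two⟩
    obtain ⟨t, ht⟩ := exists_prime_orderOf_dvd_card' 2 h2
    have hto : orderOf (t : G) = 2 := by rw [Subgroup.orderOf_coe, ht]
    have htt : (t : G) * t = 1 := by rw [← pow_two, ← hto, pow_orderOf_eq_one]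
    have ht1 : (t : G) ≠ 1 := by
      intro h
      rw [h, orderOf_one] at hto
      norm_num at hto
    have htx : (t : G) * x = x * t := mem_centralizer_singleton_iff.1 t.2
    obtain ⟨g, hg⟩ := isConj_iff.1 (Cfsg.Agent.KFacts.ON.OneClass.one_class htt ht1)
    set y := g * x * g⁻¹ with hy
    have hyo : orderOf y = 7 := by
      rw [hy, ← hx]
      exact MulEquiv.orderOf_eq (MulAut.conj g) x
    have hc : Nat.card ↥(centralizer ({y} : Set G)) = Nat.card ↥(centralizer ({x} : Set G)) :=
      Cfsg.Agent.H690.Spor.ONRow.centralizer_conj g x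
    have hyf : y * on .f = on .f * y := by
      rw [← hg, hy]
      have e1 : g * x * g⁻¹ * (g * (t : G) * g⁻¹) = g * (x * t) * g⁻¹ := by group
      have e2 : g * (t : G) * g⁻¹ * (g * x * g⁻¹) = g * (t * x) * g⁻¹ := by group
      rw [e1, e2, htx]
    have hL : Loc 7 y _ := loc_seven hyo (mem_J_of_odd (Cfsg.Agent.KFacts.ON.Struct.mem_K0.2 hyf) (by decide : Odd 7)
      (by rw [← hyo, pow_orderOf_eq_one]))
    obtain ⟨M, -, -, hodd, hM, -⟩ := hL.exists_compl
    have h4 := dvd_seven hyo
    have h6 : Nat.card M ∣ 7 ^ 3 := by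
      have h7 : Nat.card M ∣ 2 ^ 9 * 7 ^ 3 := by
        refine dvd_trans ?_ h4
        rw [hM]
        exact dvd_mul_left _ _
      exact (Nat.Coprime.pow_right 9 (Nat.coprime_two_right.2 hodd)).dvd_of_dvd_mul_left h7
    have h7 := Nat.le_of_dvd (by norm_num) h6
    rw [← hc, hM]
    omega
  · have hodd : Odd (Nat.card ↥(centralizer ({x} : Set G))) := by
      rw [← Nat.not_even_iff_odd, even_iff_two_dvd]
      exact h2
    have h6 : Nat.card ↥(centralizer ({x} : Set G)) ∣ 7 ^ 3 :=
      (Nat.Coprime.pow_right 9 (Nat.coprime_two_right.2 hodd)).dvd_of_dvd_mul_left (dvd_seven hx)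
    have h7 := Nat.le_of_dvd (by norm_num) h6
    omega

/-! ### The minimal index -/

theorem exists_order {r : ℕ} (hr : r.Prime) (hd : r ∣ n_opn) : ∃ z : G, orderOf z = r := by
  have := fin
  have : Fact r.Prime := ⟨hr⟩
  exact exists_prime_orderOf_dvd_card' r (by rw [card]; exact hd)

theorem known5 : Known G 5 36 4 := by
  have := fin
  obtain ⟨z, hz⟩ := exists_order (r := 5) (by norm_num) (by decide +kernel)
  exact Known.of_cent (by norm_num) card (by decide +kernel) (by decide +kernel) hz (by rw [card_cent_five hz])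
    (by decide +kernel)

theorem known11 : Known G 11 1 10 := by
  have := fin
  obtain ⟨z, hz⟩ := exists_order (r := 11) (by norm_num) (by decide +kernel)
  exact Known.of_cent (by norm_num) card (by decide +kernel) (by decide +kernel) hz (by rw [card_cent_eleven hz])
    (by decide +kernel)

theorem known19 : Known G 19 1 6 := by
  have := fin
  obtain ⟨z, hz⟩ := exists_order (r := 19) (by norm_num) (by decide +kernel)
  exact Known.of_cent (by norm_num) card (by decide +kernel) (by decide +kernel) hz
    (by rw [H680.ONThirtyOne.card_cent_nineteen hz]) (by decide +kernel)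

theorem known31 : Known G 31 1 15 := by
  have := fin
  obtain ⟨z, hz⟩ := exists_order (r := 31) (by norm_num) (by decide +kernel)
  exact Known.of_cent (by norm_num) card (by decide +kernel) (by decide +kernel) hz
    (by rw [H680.ONThirtyOne.card_cent hz]) (by decide +kernel)

def loc : List LD := [⟨5, 5 * 36, [(2, 4), (3, 2), (5, 1)]⟩, ⟨11, 11 * 1, [(2, 1), (5, 1), (11, 1)]⟩,
  ⟨19, 19 * 1, [(2, 1), (3, 1), (19, 1)]⟩, ⟨31, 31 * 1, [(3, 1), (5, 1), (31, 1)]⟩]

theorem ctx (B : Base) : Ctx G l_opn n_opn o_opn loc where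
  fin := fin
  simple := simple
  card := card
  val := v_opn
  nodup := nd_opn
  ords := ords_opn B
  loc := by
    have := fin
    intro ld hld
    simp only [loc, List.mem_cons, List.not_mem_nil, or_false] at hld
    rcases hld with rfl | rfl | rfl | rfl
    · exact loc_of_known known5 (by decide +kernel) (by decide +kernel)
    · exact loc_of_known known11 (by decide +kernel) (by decide +kernel)
    · exact loc_of_known known19 (by decide +kernel) (by decide +kernel)
    · exact loc_of_known known31 (by decide +kernel) (by decide +kernel)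

def DD : List (ℕ × ℕ × ℕ) := [(31, 1, 15), (19, 1, 6), (11, 1, 10), (5, 36, 4)]

theorem D_ok : ∀ d ∈ DD, Known G d.1 d.2.1 d.2.2 := by
  intro d hd
  simp only [DD, List.mem_cons, List.not_mem_nil, or_false] at hd
  rcases hd with rfl | rfl | rfl | rfl
  · exact known31
  · exact known19
  · exact known11
  · exact known5

/-- the index `d` is not the index of a proper subgroup -/
def dead (d : ℕ) : Bool :=
  Nat.ble d 1 || !Nat.beq (n_opn % d) 0 || !adm DD d || bad l_opn n_opn [] 20 loc o_opn (n_opn / d)

theorem dead_all : (List.range 12200).all dead = true := by decide +kernel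

theorem minIx (B : Base) : MinIx G 12200 := by
  have := fin
  have := simple
  intro H hH
  by_contra hcon
  have c := ctx B
  have h1 := (List.all_eq_true.1 dead_all) _ (List.mem_range.2 (not_le.1 hcon))
  have hmi : Nat.card H * H.index = n_opn := by rw [Subgroup.card_mul_index, c.card]
  have hi0 : H.index ≠ 0 := Subgroup.index_ne_zero_of_finite
  have hin : n_opn / H.index = Nat.card H := by
    rw [← hmi]
    exact Nat.mul_div_cancel _ (Nat.pos_of_ne_zero hi0)
  unfold dead at h1
  simp only [Bool.or_eq_true, Bool.not_eq_true', beqF, bleT] at h1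
  rcases h1 with ((h1 | h1) | h1) | h1
  · exact hH (Subgroup.index_eq_one.1 (by omega))
  · exact h1 (Nat.mod_eq_zero_of_dvd ⟨_, by rw [mul_comm]; exact hmi.symm⟩)
  · rw [adm_of_known D_ok hH] at h1
    exact absurd h1 (by decide)
  · rw [hin] at h1
    have h2 := not_bad c.val c.card c.ords c.loc (full := []) (bd := 20) (H := H) (by simp) hH
    rw [h1] at h2
    exact absurd h2 (by decide)

/-! ### The row -/

theorem oddInner_of_index {S : Type} [Group S] [Finite S] (h : (MulAut.conj : S →* MulAut S).range.index ≤ 2) :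
    OddInner S := by
  intro p hp hp2 α hα
  have h2 : (MulAut.conj : S →* MulAut S).range.index ≠ 0 := Subgroup.index_ne_zero_of_finite
  have hsq : α * α ∈ (MulAut.conj : S →* MulAut S).range := by
    rcases (show (MulAut.conj : S →* MulAut S).range.index = 1 ∨ (MulAut.conj : S →* MulAut S).range.index = 2 by
      omega) with h3 | h3
    · rw [Subgroup.index_eq_one] at h3
      rw [h3]; trivial
    · exact Subgroup.mul_self_mem_of_index_two h3 α
  obtain ⟨k, hk⟩ := hp.odd_of_ne_two hp2
  have h4 : α = (α * α) ^ (k + 1) := by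
    rw [← pow_two, ← pow_mul, show 2 * (k + 1) = p + 1 by omega, pow_succ, hα, one_mul]
  have h5 : α ∈ (MulAut.conj : S →* MulAut S).range := by
    rw [h4]
    exact pow_mem hsq _
  obtain ⟨s, hs⟩ := h5
  exact ⟨s, hs.symm⟩

theorem prime_mem {p : ℕ} (hp : p.Prime) (hd : p ∣ Nat.card G) : p ∈ ({2, 3, 5, 7, 11, 19, 31} : Finset ℕ) := by
  rw [card] at hd
  have e : n_opn = 2 ^ 9 * 3 ^ 4 * 5 * 7 ^ 3 * 11 * 19 * 31 := by decide +kernel
  rw [e] at hd
  have key : ∀ {a : ℕ}, a.Prime → p ∣ a → p = a := fun ha h => (Nat.prime_dvd_prime_iff_eq hp ha).1 h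
  simp only [Finset.mem_insert, Finset.mem_singleton]
  rcases hp.dvd_mul.1 hd with hd | hd
  swap
  · have := key (by norm_num) hd; omega
  rcases hp.dvd_mul.1 hd with hd | hd
  swap
  · have := key (by norm_num) hd; omega
  rcases hp.dvd_mul.1 hd with hd | hd
  swap
  · have := key (by norm_num) hd; omega
  rcases hp.dvd_mul.1 hd with hd | hd
  swap
  · have := key (by norm_num) (hp.dvd_of_dvd_pow hd); omega
  rcases hp.dvd_mul.1 hd with hd | hd
  swap
  · have := key (by norm_num) hd; omega
  rcases hp.dvd_mul.1 hd with hd | hd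
  · have := key (by norm_num) (hp.dvd_of_dvd_pow hd); omega
  · have := key (by norm_num) (hp.dvd_of_dvd_pow hd); omega

/-- centralizer bounds -/
def cb (p : ℕ) : ℕ := if p = 3 then 3240 else if p = 5 then 180 else if p = 7 then 1372 else p

theorem noCov (B : Base) : NoCov G := by
  have := fin
  have hmem : ∀ s : G, (orderOf s).Prime → orderOf s ≠ 2 → orderOf s ∈ ({3, 5, 7, 11, 19, 31} : Finset ℕ) := by
    intro s h1 h2
    have h3 := prime_mem h1 (orderOf_dvd_natCard s)
    rw [Finset.mem_insert] at h3
    exact h3.resolve_left h2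
  refine noCov_of_cent (m := 12200) (B := 3240) (by norm_num) (minIx B)
    (oddInner_of_index (Cfsg.Agent.H498.SporOut.index_le_two ?_)) {3, 5, 7, 11, 19, 31} cb hmem ?_ ?_ (by decide) ?_
  · unfold IsSporadicGroup
    have h : Spor.IsoON G := ⟨MulEquiv.refl _⟩
    tauto
  · intro s h1 h2
    have h3 := hmem s h1 h2
    simp only [Finset.mem_insert, Finset.mem_singleton] at h3
    rcases h3 with h | h | h | h | h | h
    · rw [h, H999.ONFiveCent.card_cent_three h]; decide
    · rw [h, card_cent_five h]; decide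
    · rw [h]; exact cent_seven h
    · rw [h, card_cent_eleven h]; decide
    · rw [h, H680.ONThirtyOne.card_cent_nineteen h]; decide
    · rw [h, H680.ONThirtyOne.card_cent h]; decide
  · intro p hp
    simp only [Finset.mem_insert, Finset.mem_singleton] at hp
    rcases hp with rfl | rfl | rfl | rfl | rfl | rfl <;> decide
  · rw [Finset.sum_insert (by decide), Finset.sum_insert (by decide), Finset.sum_insert (by decide),
      Finset.sum_insert (by decide), Finset.sum_insert (by decide), Finset.sum_singleton]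
    norm_num [cb]

/-- **The row O'N of S3509.** -/
theorem rc_ON (B : Base) {T : Type} [Group T] [Finite T] (h : Spor.IsoON T) : RC T := by
  have := fin
  obtain ⟨e⟩ := h
  have hS : IsSimpleGroup G := simple
  have hna : ¬ IsMulCommutative G := by
    intro hc
    have h1 := H999.ONFiveCent.card_cent_three (x := (exists_order (r := 3) (by norm_num) (by decide +kernel)).choose)
      (exists_order (r := 3) (by norm_num) (by decide +kernel)).choose_spec
    have h2 : centralizer ({(exists_order (r := 3) (by norm_num) (by decide +kernel)).choose} : Set G) = ⊤ := by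
      rw [eq_top_iff]
      intro g _
      exact mem_centralizer_singleton_iff.2 (hc.is_comm.comm _ _)
    rw [h2, Subgroup.card_top, card] at h1
    exact absurd h1 (by decide +kernel)
  exact (rc_of_noCov hS hna (noCov B)).congr e.symm

end Cfsg.Agent.H514.RC.ONan
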